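import Cfsg.Agent.OrdDiv.Main
import Cfsg.Agent.H127.PSUThreeEx
import Cfsg.Agent.S0809
import Cfsg.Agent.S2475
import Cfsg.Agent.TwoFusion.PSL3Inv
import Cfsg.Agent.Lib.MinNormalNonabelian
import Cfsg.Agent.H890.Spr.Sixteen

/-!
# Groups of order dividing `|²F₄(2)'|` with an element of order 16 (helper890, S3938)

* `simple_cases` : the simple groups of order dividing `17971200`, in the form needed;
* `KF G s` : the local facts; `exists_normal_two` : such a group (not of order `17971200`) has a nontrivial normal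
  subgroup of exponent 2.
-/

set_option autoImplicit false

namespace Cfsg.Agent.H890.Spr

open Subgroup Cfsg Cfsg.Agent.OrdDiv

/-! ### involutions and elements of order 3 -/

theorem three_L2 {F : Type} [Field F] [Fintype F] (hF : Fintype.card F = 25)
    (t : Matrix.ProjectiveSpecialLinearGroup (Fin 2) F) (ht : orderOf t = 2) :
    ∃ x : Matrix.ProjectiveSpecialLinearGroup (Fin 2) F, orderOf x = 3 ∧ x * t = t * x := by
  have h5 : Fact (Nat.Prime 5) := ⟨Nat.prime_five⟩
  have hch : CharP F 5 := by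
    obtain ⟨p, hp⟩ := CharP.exists F
    obtain ⟨n, hpr, hn⟩ := FiniteField.card F p
    have h1 : p ∣ 5 ^ 2 := by
      rw [show (5 : ℕ) ^ 2 = 25 by norm_num, ← hF, hn]
      exact dvd_pow_self _ n.ne_zero
    have h2 : p = 5 := (Nat.prime_dvd_prime_iff_eq hpr Nat.prime_five).1 (hpr.dvd_of_dvd_pow h1)
    rw [h2] at hp
    exact hp
  have h12 : (12 : ℕ) ∈ Set.range (orderOf : Matrix.ProjectiveSpecialLinearGroup (Fin 2) F → ℕ) := by
    rw [S2475.result 5 (by rw [hF]; norm_num)]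
    right; left
    rw [hF]
    decide
  obtain ⟨g, hg⟩ := h12
  obtain ⟨g', hg'⟩ := QuotientGroup.mk_surjective g
  have hd : 12 ∣ orderOf g' := by
    rw [← hg, ← hg']
    exact orderOf_map_dvd (QuotientGroup.mk' _) g'
  obtain ⟨c, hc⟩ := hd
  have hc0 : 0 < c := by
    rcases Nat.eq_zero_or_pos c with h | h
    · exfalso
      have := orderOf_pos g'
      rw [hc, h] at this
      omega
    · exact h
  have h4 : orderOf (g' ^ (3 * c)) = 4 := by
    rw [orderOf_pow_of_dvd (by omega) (by rw [hc]; exact ⟨4, by ring⟩), hc, show 12 * c = 4 * (3 * c) by ring,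
      Nat.mul_div_cancel _ (by omega)]
  have hA : Nat.card (zpowers (g' ^ (3 * c))) = 4 := by rw [Nat.card_zpowers, h4]
  have hg6 : orderOf (g ^ 6) = 2 := by
    rw [orderOf_pow_of_dvd (by norm_num) (by rw [hg]; norm_num), hg]
  have hg4 : orderOf (g ^ 4) = 3 := by
    rw [orderOf_pow_of_dvd (by norm_num) (by rw [hg]; norm_num), hg]
  obtain ⟨h, hh⟩ := isConj_iff.1 ((S0809.result hF (by decide) _ hA).2.2.2 (g ^ 6) t hg6 ht)
  refine ⟨h * g ^ 4 * h⁻¹, ?_, ?_⟩
  · rw [show h * g ^ 4 * h⁻¹ = MulAut.conj h (g ^ 4) from rfl, MulEquiv.orderOf_eq, hg4]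
  · rw [← hh]
    have e : g ^ 4 * g ^ 6 = g ^ 6 * g ^ 4 := by rw [← pow_add, ← pow_add]
    calc h * g ^ 4 * h⁻¹ * (h * g ^ 6 * h⁻¹) = h * (g ^ 4 * g ^ 6) * h⁻¹ := by group
      _ = h * (g ^ 6 * g ^ 4) * h⁻¹ := by rw [e]
      _ = _ := by group

theorem three_L3 {F : Type} [Field F] [Fintype F] (hF : Fintype.card F = 3)
    (t : Matrix.ProjectiveSpecialLinearGroup (Fin 3) F) (ht : orderOf t = 2) :
    ∃ x : Matrix.ProjectiveSpecialLinearGroup (Fin 3) F, orderOf x = 3 ∧ x * t = t * x := by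
  have h3 : (3 : F) = 0 := by
    have h := FiniteField.cast_card_eq_zero F
    rw [hF] at h
    exact_mod_cast h
  have h2 : (2 : F) ≠ 0 := by
    intro h
    have : (1 : F) = 0 := by linear_combination h3 - h
    exact one_ne_zero this
  obtain ⟨T, P, rfl, hTT, -, hTP⟩ := TwoFusion.PSL3Inv.exists_conj_mk h2 t ht
  have hr := TwoFusion.PSL3Inv.range_phi h2 hTT hTP
  have hk : (TwoFusion.PSL3Inv.phi P).ker = ⊥ := by
    apply Subgroup.card_eq_one.1
    rw [TwoFusion.PSL3Inv.card_ker_phi P, hF]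
    decide
  let A : GL (Fin 2) F := Matrix.GeneralLinearGroup.mkOfDetNeZero !![1, 1; 0, 1] (by simp [Matrix.det_fin_two])
  have hA : A ^ 3 = 1 := by
    apply Units.ext
    show (!![1, 1; 0, 1] : Matrix (Fin 2) (Fin 2) F) ^ 3 = 1
    rw [pow_succ, pow_two]
    ext i j
    fin_cases i <;> fin_cases j <;> simp [Matrix.mul_apply, Fin.sum_univ_two]
    linear_combination h3
  have hA1 : A ≠ 1 := by
    intro h
    have h4 := congrArg (fun B : GL (Fin 2) F => B.1 0 1) h
    have h5 : (1 : F) = 0 := h4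
    exact one_ne_zero h5
  have : Fact (Nat.Prime 3) := ⟨Nat.prime_three⟩
  have hoA : orderOf A = 3 := orderOf_eq_prime hA hA1
  refine ⟨TwoFusion.PSL3Inv.phi P A, ?_, ?_⟩
  · rw [orderOf_injective _ ((MonoidHom.ker_eq_bot_iff _).1 hk), hoA]
  · have h4 : TwoFusion.PSL3Inv.phi P A ∈ (TwoFusion.PSL3Inv.phi P).range := ⟨A, rfl⟩
    rw [hr] at h4
    exact mem_centralizer_singleton_iff.1 h4

theorem fifteen_U3 {F : Type} [Field F] [Fintype F] (hF : Fintype.card F = 4 ^ 2) :
    ∃ x y : PSU 3 F 4, orderOf x = 3 ∧ orderOf y = 5 ∧ x * y = y * x := by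
  obtain ⟨g, hg⟩ := H127.PSUThreeEx.ex_three hF 15 (by norm_num)
  refine ⟨g ^ 5, g ^ 3, ?_, ?_, ?_⟩
  · rw [orderOf_pow_of_dvd (by norm_num) (by rw [hg]; norm_num), hg]
  · rw [orderOf_pow_of_dvd (by norm_num) (by rw [hg]; norm_num), hg]
  · rw [← pow_add, ← pow_add]

/-- **the simple groups of order dividing `|²F₄(2)'|`** -/
theorem simple_cases (tab : OrderTable.{0})
    (hK : ∀ (X : Type) [Group X] [Finite X] [IsSimpleGroup X], Cfsg.IsKnownSimple' X)
    {X : Type} [Group X] [Finite X] [IsSimpleGroup X] (hna : ¬ ∀ a b : X, a * b = b * a)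
    (hd : Nat.card X ∣ 17971200) (hne : Nat.card X ≠ 17971200) :
    6 ∣ Nat.card X ∧ (Nat.card X = 60 ∨ Nat.card X = 360 ∨
      (∀ t : X, orderOf t = 2 → ∃ x : X, orderOf x = 3 ∧ x * t = t * x) ∨
      ∃ x y : X, orderOf x = 3 ∧ orderOf y = 5 ∧ x * y = y * x) := by
  obtain ⟨g, hg, hr, hc⟩ := exists_good tab (hK X) hna (l := [(2,11),(3,3),(5,2),(13,1)]) (N := 17971200)
    (by decide +kernel) hd
  have hg' : g ∈ (cands [(2,11),(3,3),(5,2),(13,1)] 17971200).filter (fun g => !(ordN g == 17971200)) := by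
    rw [List.mem_filter]
    refine ⟨hg, ?_⟩
    rw [← hc, Bool.not_eq_true', beq_eq_false_iff_ne]
    exact hne
  rw [show (cands [(2,11),(3,3),(5,2),(13,1)] 17971200).filter (fun g => !(ordN g == 17971200)) =
    [.alt 5, .alt 6, .psl 2 4, .psl 3 3, .psl 2 9, .psl 2 5, .psl 2 25, .psu 3 4] from by decide +kernel] at hg'
  have key : ∀ {Y : Type} [Group Y], (X ≃* Y) → (∀ t : Y, orderOf t = 2 → ∃ x : Y, orderOf x = 3 ∧ x * t = t * x) →
      ∀ t : X, orderOf t = 2 → ∃ x : X, orderOf x = 3 ∧ x * t = t * x := by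
    intro Y _ e h t ht
    obtain ⟨x, hx, hxt⟩ := h (e t) (by rw [MulEquiv.orderOf_eq, ht])
    refine ⟨e.symm x, by rw [MulEquiv.orderOf_eq, hx], ?_⟩
    apply e.injective
    rw [map_mul, map_mul, e.apply_symm_apply, hxt]
  simp only [List.mem_cons, List.not_mem_nil, or_false] at hg'
  rcases hg' with rfl | rfl | rfl | rfl | rfl | rfl | rfl | rfl
  · have h1 : Nat.card X = 60 := by rw [hc]; decide +kernel
    exact ⟨by rw [h1]; norm_num, Or.inl h1⟩
  · have h1 : Nat.card X = 360 := by rw [hc]; decide +kernel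
    exact ⟨by rw [h1]; norm_num, Or.inr (Or.inl h1)⟩
  · have h1 : Nat.card X = 60 := by rw [hc]; decide +kernel
    exact ⟨by rw [h1]; norm_num, Or.inl h1⟩
  · have h1 : Nat.card X = 5616 := by rw [hc]; decide +kernel
    obtain ⟨F, i1, i2, hF, ⟨e⟩⟩ := hr
    exact ⟨by rw [h1]; norm_num, Or.inr (Or.inr (Or.inl (key e (three_L3 hF))))⟩
  · have h1 : Nat.card X = 360 := by rw [hc]; decide +kernel
    exact ⟨by rw [h1]; norm_num, Or.inr (Or.inl h1)⟩
  · have h1 : Nat.card X = 60 := by rw [hc]; decide +kernel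
    exact ⟨by rw [h1]; norm_num, Or.inl h1⟩
  · have h1 : Nat.card X = 7800 := by rw [hc]; decide +kernel
    obtain ⟨F, i1, i2, hF, ⟨e⟩⟩ := hr
    exact ⟨by rw [h1]; norm_num, Or.inr (Or.inr (Or.inl (key e (three_L2 hF))))⟩
  · have h1 : Nat.card X = 62400 := by rw [hc]; decide +kernel
    obtain ⟨F, i1, i2, hF, ⟨e⟩⟩ := hr
    obtain ⟨x, y, hx, hy, hxy⟩ := fifteen_U3 hF
    refine ⟨by rw [h1]; norm_num, Or.inr (Or.inr (Or.inr ⟨e.symm x, e.symm y, ?_, ?_, ?_⟩))⟩
    · rw [MulEquiv.orderOf_eq, hx]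
    · rw [MulEquiv.orderOf_eq, hy]
    · rw [← map_mul, hxy, map_mul]

/-! ### the local facts -/

/-- the facts on a subgroup through the element of order 16 -/
structure KF (G : Type) [Group G] (s : G) : Prop where
  card : Nat.card G ∣ 17971200
  ord : orderOf s = 16
  invol : ∀ c : G, c * c = 1 → c ≠ 1 → c * s = s * c → c = s ^ 8
  odd : ∀ V : Subgroup G, (∀ v ∈ V, v * s ^ 8 = s ^ 8 * v) → Odd (Nat.card V) → Nat.card V ∣ 5
  nc : ∀ x y : G, orderOf x = 3 → orderOf y = 5 → x * y ≠ y * x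
  cent5 : ∀ y c : G, orderOf y = 5 → orderOf c = 4 → c * y ≠ y * c

namespace KF

variable {G : Type} [Group G] [Finite G] {s : G} (F : KF G s)

omit [Finite G] in
include F in
theorem no_three {x : G} (hx : orderOf x = 3) (h : x * s ^ 8 = s ^ 8 * x) : False := by
  have h1 := F.odd (zpowers x) (by
    rintro v ⟨k, rfl⟩
    have h2 : Commute x (s ^ 8) := h
    exact (h2.zpow_left k).eq) (by rw [Nat.card_zpowers, hx]; decide)
  rw [Nat.card_zpowers, hx] at h1
  revert h1
  decide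

include F in
/-- the abelian normal subgroups of odd order -/
theorem no_abelian {N : Subgroup G} (hN : ∀ v ∈ N, s * v * s⁻¹ ∈ N) (hN1 : N ≠ ⊥) {p : ℕ} (hp : p.Prime) (hp2 : p ≠ 2)
    (hpN : IsPGroup p N) (hab : ∀ a ∈ N, ∀ b ∈ N, a * b = b * a) : False := by
  have : Fact p.Prime := ⟨hp⟩
  obtain ⟨k, hk⟩ := IsPGroup.iff_card.1 hpN
  have hk0 : k ≠ 0 := by
    rintro rfl
    rw [pow_zero] at hk
    exact hN1 (Subgroup.card_eq_one.1 hk)
  have hd : p ^ k ∣ 17971200 := by
    rw [← hk]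
    exact (Subgroup.card_subgroup_dvd_card N).trans F.card
  have hodd : Odd (Nat.card N) := by
    rw [hk]
    exact (hp.odd_of_ne_two hp2).pow
  have hpp : p = 3 ∨ p = 5 ∨ p = 13 := by
    have h1 : p ∣ 2 ^ 11 * 3 ^ 3 * 5 ^ 2 * 13 := by
      refine (dvd_pow_self p hk0).trans (hd.trans ?_)
      norm_num
    rcases (hp.dvd_mul).1 h1 with h1 | h1
    · rcases (hp.dvd_mul).1 h1 with h1 | h1
      · rcases (hp.dvd_mul).1 h1 with h1 | h1
        · exact absurd ((Nat.prime_dvd_prime_iff_eq hp Nat.prime_two).1 (hp.dvd_of_dvd_pow h1)) hp2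
        · exact Or.inl ((Nat.prime_dvd_prime_iff_eq hp Nat.prime_three).1 (hp.dvd_of_dvd_pow h1))
      · exact Or.inr (Or.inl ((Nat.prime_dvd_prime_iff_eq hp Nat.prime_five).1 (hp.dvd_of_dvd_pow h1)))
    · exact Or.inr (Or.inr ((Nat.prime_dvd_prime_iff_eq hp (by norm_num)).1 h1))
  have hcomm : ∀ v ∈ N, s ^ 8 * v = v * s ^ 8 := by
    refine comm_of_free F.ord hab hN ?_ ?_
    · intro v hv h2
      by_contra hv1
      have : Fact (Nat.Prime 2) := ⟨Nat.prime_two⟩
      have h3 : orderOf v = 2 := orderOf_eq_prime (by rw [pow_two]; exact h2) hv1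
      have h4 := Subgroup.orderOf_dvd_natCard N hv
      rw [h3] at h4
      exact (Nat.not_even_iff_odd.2 hodd) (even_iff_two_dvd.2 h4)
    · intro W hW h16
      have h1 : Nat.card W ∣ p ^ k := by
        rw [← hk]
        exact Subgroup.card_dvd_of_le hW
      obtain ⟨j, hj, hj'⟩ := (Nat.dvd_prime_pow hp).1 h1
      have h2 : p ^ j ∣ 17971200 := (pow_dvd_pow p hj).trans hd
      rw [hj'] at h16 ⊢
      have hj4 : j < 4 := by
        by_contra hcon
        push Not at hcon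
        have h3 : p ^ 4 ∣ 17971200 := (pow_dvd_pow p hcon).trans h2
        rcases hpp with rfl | rfl | rfl <;> revert h3 <;> norm_num
      rcases hpp with rfl | rfl | rfl <;> interval_cases j <;> revert h2 h16 <;> norm_num
  have h5 := F.odd N (fun v hv => (hcomm v hv).symm) hodd
  have h5' : Nat.card N = 5 := by
    rcases (Nat.dvd_prime Nat.prime_five).1 h5 with h | h
    · exact absurd (Subgroup.card_eq_one.1 h) hN1
    · exact h
  obtain ⟨⟨y, hy⟩, hy0⟩ := (Subgroup.ne_bot_iff_exists_ne_one).1 hN1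
  have hy1 : y ≠ 1 := fun h => hy0 (Subtype.ext h)
  have : Fact (Nat.Prime 5) := ⟨Nat.prime_five⟩
  have hyo : orderOf y = 5 := by
    have h1 := Subgroup.orderOf_dvd_natCard N hy
    rw [h5'] at h1
    rcases (Nat.dvd_prime Nat.prime_five).1 h1 with h | h
    · exact absurd (orderOf_eq_one_iff.1 h) hy1
    · exact h
  have hgen : zpowers y = N := by
    apply Subgroup.eq_of_le_of_card_ge
    · rw [zpowers_le]; exact hy
    · rw [Nat.card_zpowers, hyo, h5']
  have h1 : s * y * s⁻¹ ∈ zpowers y := by rw [hgen]; exact hN y hy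
  obtain ⟨i, hi⟩ := ((isOfFinOrder_of_finite y).mem_powers_iff_mem_zpowers).2 h1
  simp only at hi
  have hci : ∀ n : ℕ, s * y ^ n * s⁻¹ = y ^ (i * n) := by
    intro n
    rw [← conj_pow, ← hi, ← pow_mul]
  have h4 : s ^ 4 * y * (s ^ 4)⁻¹ = y ^ (i * (i * (i * i))) := by
    have e : s ^ 4 * y * (s ^ 4)⁻¹ = s * (s * (s * (s * y ^ 1 * s⁻¹) * s⁻¹) * s⁻¹) * s⁻¹ := by
      have e4 : s ^ 4 = s * s * s * s := by rw [pow_succ, pow_succ, pow_two]
      rw [pow_one, e4]
      group
    rw [e, hci, hci, hci, hci, mul_one]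
  have hi5 : i % 5 ≠ 0 := by
    intro h
    have h2 : y ^ i = 1 := orderOf_dvd_iff_pow_eq_one.1 (by rw [hyo]; exact Nat.dvd_of_mod_eq_zero h)
    rw [h2] at hi
    exact hy1 (conj_eq_one_iff.1 hi.symm)
  have hmod : (i * (i * (i * i))) % 5 = 1 := by
    have key : ∀ a : Fin 5, a.val ≠ 0 → (a.val * (a.val * (a.val * a.val))) % 5 = 1 := by decide
    have h2 := key ⟨i % 5, Nat.mod_lt _ (by norm_num)⟩ hi5
    simpa [Nat.mul_mod] using h2
  have h6 : y ^ (i * (i * (i * i))) = y := by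
    rw [← pow_mod_orderOf, hyo, hmod, pow_one]
  rw [h6] at h4
  refine F.cent5 y (s ^ 4) hyo ?_ (mul_inv_eq_iff_eq_mul.1 h4)
  rw [orderOf_pow_of_dvd (by norm_num) (by rw [F.ord]; norm_num), F.ord]

include F in
/-- **a group with these facts has a nontrivial normal subgroup of exponent 2** -/
theorem exists_normal_two (tab : OrderTable.{0})
    (hK : ∀ (X : Type) [Group X] [Finite X] [IsSimpleGroup X], Cfsg.IsKnownSimple' X)
    (hne : Nat.card G ≠ 17971200) : ∃ V : Subgroup G, V.Normal ∧ V ≠ ⊥ ∧ ∀ v ∈ V, v * v = 1 := by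
  have hs1 : s ≠ 1 := by
    rintro rfl
    have := F.ord
    rw [orderOf_one] at this
    norm_num at this
  have htop : (⊤ : Subgroup G) ≠ ⊥ := by
    intro h
    have : s ∈ (⊤ : Subgroup G) := mem_top s
    rw [h, mem_bot] at this
    exact hs1 this
  obtain ⟨N, -, hN1, hNn, hmin⟩ := Lib.MinNormal.exists_minimal_normal_le (⊤ : Subgroup G) htop
  have hNor : N.Normal := normalizer_eq_top_iff.1 (top_le_iff.1 hNn)
  have hmin' : ∀ M : Subgroup G, M.Normal → M ≤ N → M = ⊥ ∨ M = N := fun M hM hMN =>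
    hmin M hMN (by rw [normalizer_eq_top_iff.2 hM])
  have hNs : ∀ v ∈ N, s * v * s⁻¹ ∈ N := fun v hv => hNor.conj_mem v hv s
  by_cases hab : ∀ a ∈ N, ∀ b ∈ N, a * b = b * a
  · obtain ⟨p, hp, hpN, hexp⟩ := Lib.MinNormalNonabelian.abelian_structure N hN1 hmin' hab
    by_cases hp2 : p = 2
    · subst hp2
      exact ⟨N, hNor, hN1, fun v hv => by rw [← pow_two]; exact hexp v hv⟩
    · exact (F.no_abelian hNs hN1 hp hp2 hpN hab).elim
  exfalso
  obtain ⟨T, m, hTN, hsim, hm, ⟨e⟩⟩ := Lib.MinNormal.exists_mulEquiv_pi N hN1 hmin'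
  have hna : ¬ ∀ a b : T, a * b = b * a := by
    intro h
    apply hab
    intro a ha b hb
    have h1 : e (⟨a, ha⟩ * ⟨b, hb⟩) = e (⟨b, hb⟩ * ⟨a, ha⟩) := by
      rw [map_mul, map_mul]
      ext i
      exact congrArg Subtype.val (h (e ⟨a, ha⟩ i) (e ⟨b, hb⟩ i))
    exact congrArg Subtype.val (e.injective h1)
  have hTd : Nat.card T ∣ Nat.card G := Subgroup.card_subgroup_dvd_card T
  have hTne : Nat.card T ≠ 17971200 := by
    intro h
    apply hne
    rw [h] at hTd
    exact Nat.dvd_antisymm F.card hTd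
  obtain ⟨h6, hcases⟩ := simple_cases tab hK (X := T) hna (hTd.trans F.card) hTne
  have h2N : 2 ∣ Nat.card N := (((by norm_num : 2 ∣ 6).trans h6).trans (Subgroup.card_dvd_of_le hTN))
  have hz : s ^ 8 ∈ N := by
    obtain ⟨c, hc, h1, h2, h3⟩ := exists_fix_two F.ord hNs h2N
    rw [F.invol c h1 h2 h3] at hc
    exact hc
  let j : Fin m := ⟨0, hm⟩
  -- the embedding of the factors
  have hsing : ∀ (i : Fin m) (x : T), orderOf ((e.symm (Pi.mulSingle i x) : N) : G) = orderOf x := by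
    intro i x
    rw [Subgroup.orderOf_coe, MulEquiv.orderOf_eq]
    exact orderOf_injective (MonoidHom.mulSingle (fun _ : Fin m => T) i)
      (fun a b h => Pi.mulSingle_injective (M := fun _ : Fin m => T) i h) x
  have hcm : ∀ a b : Fin m → T, a * b = b * a → ((e.symm a : N) : G) * ((e.symm b : N) : G) =
      ((e.symm b : N) : G) * ((e.symm a : N) : G) := by
    intro a b hab
    rw [← Subgroup.coe_mul, ← Subgroup.coe_mul, ← map_mul, ← map_mul, hab]
  have hthree : ∃ x : T, orderOf x = 3 := by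
    have : Fact (Nat.Prime 3) := ⟨Nat.prime_three⟩
    exact exists_prime_orderOf_dvd_card' 3 ((by norm_num : 3 ∣ 6).trans h6)
  -- orders 60 and 360
  have hsmall : 5 ∣ Nat.card T → (m = 1 → False) → False := by
    intro h5 hm1
    obtain ⟨x, hx⟩ := hthree
    have : Fact (Nat.Prime 5) := ⟨Nat.prime_five⟩
    obtain ⟨y, hy⟩ := exists_prime_orderOf_dvd_card' (G := T) 5 h5
    have hm2 : 1 < m := by
      rcases Nat.lt_or_ge 1 m with h | h
      · exact h
      · exact (hm1 (by omega)).elim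
    let j' : Fin m := ⟨1, hm2⟩
    have hjj : j ≠ j' := by
      intro h
      have := congrArg Fin.val h
      simp [j, j'] at this
    refine F.nc _ _ ((hsing j x).trans hx) ((hsing j' y).trans hy) (hcm _ _ ?_)
    exact (Pi.mulSingle_commute (f := fun _ : Fin m => T) hjj x y).eq
  have hm1 : m = 1 → ∃ f : N ≃* T, True := by
    rintro rfl
    exact ⟨e.trans (MulEquiv.funUnique (Fin 1) T), trivial⟩
  have hN1s : m = 1 → IsSimpleGroup N ∧ (¬ ∀ a b : N, a * b = b * a) ∧ Nat.card N = Nat.card T := by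
    intro h
    obtain ⟨f, -⟩ := hm1 h
    refine ⟨?_, ?_, Nat.card_congr f.toEquiv⟩
    · have : Nontrivial N := f.toEquiv.nontrivial
      exact (MulEquiv.isSimpleGroup_congr f).2 hsim
    · intro h1
      apply hna
      intro a b
      apply f.symm.injective
      rw [map_mul, map_mul, h1]
  rcases hcases with h60 | h360 | hinv | ⟨x, y, hx, hy, hxy⟩
  · refine hsmall (by rw [h60]; norm_num) fun h => ?_
    obtain ⟨h1, h2, h3⟩ := hN1s h
    exact kill_60 F.ord hNs h1 h2 hz (h3.trans h60)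
  · refine hsmall (by rw [h360]; norm_num) fun h => ?_
    obtain ⟨h1, h2, h3⟩ := hN1s h
    exact kill_360 F.ord hNs h1 h2 hz (h3.trans h360)
  · -- an element of order 3 commuting with `s ^ 8`
    set w : Fin m → T := e ⟨s ^ 8, hz⟩ with hw
    have hww : w * w = 1 := by
      rw [hw, ← map_mul]
      have h1 : (⟨s ^ 8, hz⟩ : N) * ⟨s ^ 8, hz⟩ = 1 := by
        apply Subtype.ext
        show s ^ 8 * s ^ 8 = 1
        rw [← pow_add, show 8 + 8 = orderOf s by rw [F.ord], pow_orderOf_eq_one]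
      rw [h1, map_one]
    have hwj : w j * w j = 1 := congrFun hww j
    obtain ⟨x, hx, hxw⟩ : ∃ x : T, orderOf x = 3 ∧ x * w j = w j * x := by
      by_cases h1 : w j = 1
      · obtain ⟨x, hx⟩ := hthree
        exact ⟨x, hx, by rw [h1, mul_one, one_mul]⟩
      · have : Fact (Nat.Prime 2) := ⟨Nat.prime_two⟩
        exact hinv _ (orderOf_eq_prime (by rw [pow_two]; exact hwj) h1)
    refine F.no_three ((hsing j x).trans hx) ?_
    have h2 := hcm (Pi.mulSingle j x) w (by
      ext i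
      by_cases hi : i = j
      · subst hi
        simp only [Pi.mul_apply, Pi.mulSingle_eq_same]
        exact congrArg Subtype.val hxw
      · simp only [Pi.mul_apply, Pi.mulSingle_eq_of_ne hi, one_mul, mul_one])
    rw [hw, e.symm_apply_apply] at h2
    exact h2
  · exact F.nc _ _ ((hsing j x).trans hx) ((hsing j y).trans hy) (hcm _ _ (by
      rw [← Pi.mulSingle_mul, ← Pi.mulSingle_mul, hxy]))

end KF

end Cfsg.Agent.H890.Spr
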