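import Cfsg.Agent.H890.Spr.TKern
import Cfsg.Agent.H890.Spr.TSmall
import Cfsg.Agent.H424.Spr.Two
import Cfsg.Agent.H862.Spr.Rows
import Cfsg.Agent.CpAutTits.Row

/-!
# S3938, the Tits group (helper890)

The proper subgroups through the element `sT` of order 16 lie in `C(z)` or in `N(V4)`: `TF.cases_T`, `spr_TT`,
`row_tits`.
-/

set_option autoImplicit false
set_option Elab.async false

namespace Cfsg.Agent.H890.Spr

open Subgroup Cfsg.Agent.OrdDiv
open Cfsg.Agent.H424.Spr (Spr)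

/-- the facts used, for an abstract group -/
structure TF {L : Type} [Group L] (T V4 : Subgroup L) (s z a b v0 : L) : Prop where
  card : Nat.card T = 17971200
  sT : s ∈ T
  zT : z ∈ T
  ord : orderOf s = 16
  pow8 : s ^ 8 = z
  zz : z * z = 1
  z1 : z ≠ 1
  invol : ∀ c ∈ T, c * c = 1 → c ≠ 1 → c * s = s * c → c = z
  odd : ∀ V : Subgroup L, V ≤ T → (∀ v ∈ V, v * z * v⁻¹ = z) → Odd (Nat.card V) → Nat.card V ∣ 5
  out : CpAutTits.Row.Out ↥T
  loc : ∀ K V : Subgroup L, K ≤ T → s ∈ K → V ≤ K → (∀ k ∈ K, ∀ v ∈ V, k * v * k⁻¹ ∈ V) → V ≠ ⊥ →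
    (∀ v ∈ V, v * v = 1) → (∀ k ∈ K, k * z * k⁻¹ = z) ∨ ∀ k ∈ K, ∀ v ∈ V4, k * v * k⁻¹ ∈ V4
  aT : a ∈ T
  az : a * z * a⁻¹ ≠ z
  bT : b ∈ T
  v0V : v0 ∈ V4
  bv : b * v0 * b⁻¹ ∉ V4
  sV : ∀ v ∈ V4, s * v * s⁻¹ ∈ V4

namespace TF

variable {L : Type} [Group L] [Finite L] {T V4 : Subgroup L} {s z a b v0 : L} (F : TF T V4 s z a b v0)

omit [Finite L] in
include F in
theorem kf {K : Subgroup L} (hK : K ≤ T) (hs : s ∈ K) : KF ↥K ⟨s, hs⟩ where
  card := by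
    rw [← F.card]
    exact Subgroup.card_dvd_of_le hK
  ord := by rw [Subgroup.orderOf_mk, F.ord]
  invol := by
    rintro ⟨c, hc⟩ h1 h2 h3
    apply Subtype.ext
    show c = s ^ 8
    rw [F.pow8]
    exact F.invol c (hK hc) (congrArg Subtype.val h1) (fun h => h2 (Subtype.ext h)) (congrArg Subtype.val h3)
  odd := by
    intro V hV ho
    have h1 : Nat.card V = Nat.card (V.map K.subtype) :=
      Nat.card_congr (V.equivMapOfInjective K.subtype K.subtype_injective).toEquiv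
    rw [h1] at ho ⊢
    refine F.odd _ ?_ ?_ ho
    · rintro _ ⟨v, -, rfl⟩
      exact hK v.2
    · rintro _ ⟨v, hv, rfl⟩
      have h2 := congrArg Subtype.val (hV v hv)
      change (v : L) * s ^ 8 = s ^ 8 * v at h2
      rw [F.pow8] at h2
      change (v : L) * z * (v : L)⁻¹ = z
      rw [h2, mul_inv_cancel_right]
  nc := by
    rintro ⟨x, hx⟩ ⟨y, hy⟩ h1 h2 h3
    rw [Subgroup.orderOf_mk] at h1 h2
    have h4 : x * y = y * x := congrArg Subtype.val h3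
    exact F.out.ncomm ⟨x, hK hx⟩ ⟨y, hK hy⟩ (by rw [Subgroup.orderOf_mk, h1])
      (by rw [Subgroup.orderOf_mk, h2]) (Subtype.ext h4)
  cent5 := by
    rintro ⟨y, hy⟩ ⟨c, hc⟩ h1 h2 h3
    rw [Subgroup.orderOf_mk] at h1 h2
    have h0 : c * y = y * c := congrArg Subtype.val h3
    have h4 := F.out.cent ⟨y, hK hy⟩ (by rw [Subgroup.orderOf_mk, h1])
    have h5 : (⟨c, hK hc⟩ : ↥T) ∈ centralizer ({(⟨y, hK hy⟩ : ↥T)} : Set ↥T) :=
      mem_centralizer_singleton_iff.2 (Subtype.ext h0)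
    have h6 := Subgroup.orderOf_dvd_natCard _ h5
    rw [Subgroup.orderOf_mk, h2, h4] at h6
    revert h6
    decide

include F in
/-- the subgroups through `s` -/
theorem cases_K (tab : OrderTable.{0})
    (hX : ∀ (X : Type) [Group X] [Finite X] [IsSimpleGroup X], Cfsg.IsKnownSimple' X)
    {K : Subgroup L} (hK : K ≤ T) (hne : K ≠ T) (hs : s ∈ K) :
    (∀ k ∈ K, k * z * k⁻¹ = z) ∨ ∀ k ∈ K, ∀ v ∈ V4, k * v * k⁻¹ ∈ V4 := by
  obtain ⟨V, hV, hV1, hexp⟩ := (F.kf hK hs).exists_normal_two tab hX (by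
    intro h
    apply hne
    exact Subgroup.eq_of_le_of_card_ge hK (by rw [F.card, h]))
  refine F.loc K (V.map K.subtype) hK hs ?_ ?_ ?_ ?_
  · rintro _ ⟨v, -, rfl⟩
    exact v.2
  · rintro k hk _ ⟨v, hv, rfl⟩
    exact ⟨⟨k, hk⟩ * v * ⟨k, hk⟩⁻¹, hV.conj_mem v hv ⟨k, hk⟩, rfl⟩
  · intro h
    apply hV1
    exact (Subgroup.map_eq_bot_iff_of_injective V K.subtype_injective).1 h
  · rintro _ ⟨v, hv, rfl⟩
    exact congrArg Subtype.val (hexp v hv)

/-- `C(z)` -/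
def M1 (T : Subgroup L) (z : L) : Subgroup ↥T := (centralizer ({z} : Set L)).subgroupOf T
/-- `N(V4)` -/
def M2 (T V4 : Subgroup L) : Subgroup ↥T := (normalizer (V4 : Set L)).subgroupOf T

omit [Finite L] in
theorem mem_M1 {t : ↥T} : t ∈ M1 T z ↔ (t : L) * z * (t : L)⁻¹ = z := by
  unfold M1
  rw [mem_subgroupOf, mem_centralizer_singleton_iff, mul_inv_eq_iff_eq_mul]

theorem mem_M2 {t : ↥T} (h : ∀ v ∈ V4, (t : L) * v * (t : L)⁻¹ ∈ V4) : t ∈ M2 T V4 := by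
  unfold M2
  rw [mem_subgroupOf]
  exact TitsK.mem_normalizer_of h

omit [Finite L] in
include F in
theorem M1_ne : M1 T z ≠ ⊤ := by
  intro h
  have h1 : (⟨a, F.aT⟩ : ↥T) ∈ M1 T z := by rw [h]; exact mem_top _
  exact F.az (mem_M1.1 h1)

omit [Finite L] in
include F in
theorem M2_ne : M2 T V4 ≠ ⊤ := by
  intro h
  have h1 : (⟨b, F.bT⟩ : ↥T) ∈ M2 T V4 := by rw [h]; exact mem_top _
  exact F.bv ((mem_normalizer_iff.1 (mem_subgroupOf.1 h1) v0).1 F.v0V)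

include F in
theorem cases_T (tab : OrderTable.{0})
    (hX : ∀ (X : Type) [Group X] [Finite X] [IsSimpleGroup X], Cfsg.IsKnownSimple' X)
    (K : Subgroup ↥T) (hs : (⟨s, F.sT⟩ : ↥T) ∈ K) (hK : K ≠ ⊤) : K ≤ M1 T z ∨ K ≤ M2 T V4 := by
  have h1 : K.map T.subtype ≤ T := by
    rintro _ ⟨k, -, rfl⟩
    exact k.2
  have h2 : K.map T.subtype ≠ T := by
    intro h
    apply hK
    rw [eq_top_iff]
    intro t _
    have h3 : (t : L) ∈ K.map T.subtype := by rw [h]; exact t.2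
    obtain ⟨k, hk, h4⟩ := h3
    rwa [← Subtype.ext h4]
  rcases F.cases_K tab hX h1 h2 ⟨_, hs, rfl⟩ with h | h
  · left
    intro k hk
    exact mem_M1.2 (h k ⟨k, hk, rfl⟩)
  · right
    intro k hk
    exact mem_M2 (h k ⟨k, hk, rfl⟩)

open scoped Pointwise in
include F in
theorem M_conj (y : ↥T) (h : H424.Spr.c y • M1 T z = M2 T V4) : M1 T z = M2 T V4 := by
  have h1 : (⟨s, F.sT⟩ : ↥T) ∈ M2 T V4 := mem_M2 F.sV
  rw [← h] at h1
  obtain ⟨m, hm, h2⟩ := h1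
  have h2' : y * m * y⁻¹ = ⟨s, F.sT⟩ := h2
  have h3 := mem_M1.1 hm
  have h4 : (y : L) * m * (y : L)⁻¹ = s := congrArg Subtype.val h2'
  have h5 : (y : L) * z * (y : L)⁻¹ = z := by
    refine F.invol _ (T.mul_mem (T.mul_mem y.2 F.zT) (T.inv_mem y.2)) ?_ ?_ ?_
    · have e : (y : L) * z * (y : L)⁻¹ * ((y : L) * z * (y : L)⁻¹) = (y : L) * (z * z) * (y : L)⁻¹ := by group
      rw [e, F.zz]
      group
    · intro h6
      exact F.z1 (conj_eq_one_iff.1 h6)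
    · rw [← h4]
      have h6 : z * (m : L) = m * z := (mul_inv_eq_iff_eq_mul.1 h3).symm
      calc (y : L) * z * (y : L)⁻¹ * ((y : L) * m * (y : L)⁻¹) = y * (z * m) * (y : L)⁻¹ := by group
        _ = y * (m * z) * (y : L)⁻¹ := by rw [h6]
        _ = _ := by group
  rw [← h]
  exact (H424.Spr.c_smul_self (mem_M1.2 h5)).symm

include F in
theorem spr [IsSimpleGroup ↥T] (tab : OrderTable.{0})
    (hX : ∀ (X : Type) [Group X] [Finite X] [IsSimpleGroup X], Cfsg.IsKnownSimple' X) : Spr ↥T := by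
  refine H424.Spr.spr_of_two' ?_ (s := ⟨s, F.sT⟩) F.M1_ne F.M2_ne F.M_conj (F.cases_T tab hX)
  refine ⟨⟨a, F.aT⟩, ⟨z, F.zT⟩, fun h => ?_⟩
  apply F.az
  exact mul_inv_eq_iff_eq_mul.2 (congrArg Subtype.val h)

end TF

open Cfsg.Agent.TitsK
open Cfsg.Agent.FourTwo.Base (LL)
open Cfsg.Agent.FourTwo.Classes (ec ec_mulU ec_invU ec_conjU ec_zero ec_inj)

theorem card_TT' : Nat.card ↥TT = 17971200 := by
  rw [card_TT]
  norm_num

theorem nb_z1 : nb * z1 * nb⁻¹ ∉ V4 := by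
  intro h2
  rw [nb_conj_z1] at h2
  obtain ⟨e, he, h3⟩ := h2
  have h4 : ∀ e ∈ L4, e < 2 ^ 24 ∧ e ≠ 266240 := by decide
  exact (h4 e he).2 (ec_inj (by norm_num) (h4 e he).1 h3).symm

theorem sT_V4 : ∀ v ∈ V4, sT * v * sT⁻¹ ∈ V4 := by
  intro v hv
  have hz : sT * z * sT⁻¹ = z := z_central sT_mem_UT
  have h1 := conj_z1 sT_mem_UT
  rcases mem_V4_iff.1 hv with rfl | rfl | rfl | rfl
  · rw [mul_one, mul_inv_cancel]
    exact V4.one_mem
  · rw [hz]
    exact z_mem_V4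
  · rcases h1 with h1 | h1
    · rw [h1]
      exact hv
    · rw [h1]
      exact V4.mul_mem z_mem_V4 hv
  · have e : sT * (z * z1) * sT⁻¹ = sT * z * sT⁻¹ * (sT * z1 * sT⁻¹) := by group
    rw [e, hz]
    rcases h1 with h1 | h1
    · rw [h1]
      exact hv
    · rw [h1]
      exact V4.mul_mem z_mem_V4 hv

theorem tf : TF TT V4 sT z Cfsg.Agent.TitsK.na nb z1 where
  card := card_TT'
  sT := sT_mem
  zT := z_mem_TT
  ord := orderOf_sT
  pow8 := sT_pow8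
  zz := z_sq
  z1 := z_ne
  invol := fun _ hc h2 h1 h => invol_comm_s (TT_le hc) h2 h1 h
  odd := fun _ hV hz ho => card_odd_z (fun v hv => mem_Pz.2 ⟨TT_le (hV hv), hz v hv⟩) ho
  out := CpAutTits.Row.out_TT
  loc := fun _ _ hK hs hVK hV hV1 hexp => two_local hK hs hVK hV hV1 hexp
  aT := na_mem_TT
  az := z_not_central
  bT := nb_mem_TT
  v0V := z1_mem_V4
  bv := nb_z1
  sV := sT_V4

theorem spr_transfer {X Y : Type} [Group X] [Group Y] (h : Spr X) (e : Nonempty (Y ≃* X)) : Spr Y := by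
  obtain ⟨e⟩ := e
  exact Spr.congr e.symm h

/-- **3/2-generation for the Tits group** -/
theorem spr_TT (tab : OrderTable.{0})
    (hX : ∀ (X : Type) [Group X] [Finite X] [IsSimpleGroup X], Cfsg.IsKnownSimple' X) : Spr ↥TT := by
  have := simple_TT
  exact tf.spr tab hX

/-- **the row of the Tits group** (S3938) -/
theorem row_tits (tab : OrderTable.{0})
    (hX : ∀ (X : Type) [Group X] [Finite X] [IsSimpleGroup X], Cfsg.IsKnownSimple' X) :
    H862.Spr.Row .tits := by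
  intro T _ _ _ h
  exact spr_transfer (spr_TT tab hX) (CpAutTits.Row.exists_equiv h.real)

end Cfsg.Agent.H890.Spr
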