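import Cfsg.Agent.TitsK.KPts
import Cfsg.Agent.TitsK.CentOdd
import Cfsg.Agent.H890.Spr.Sixteen

/-!
# The Tits group: the element `s` of order 16 (helper890, S3938)

`sT = ec sc` of order 16 with `sT ^ 8 = z`.

* `comm_s` : an element of `HT` commuting with `sT` lies in `UT`; `conj_s` : `g ∈ HT`, `g * sT * g⁻¹ ∈ UT`: `g ∈ UT`;
* `invol_comm_s` : the only involution commuting with `sT` is `z`;
* `two_local` : the subgroups `K` of `TT` through `sT` with a nontrivial normal 2-subgroup of exponent 2.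
* `card_odd_z` : the subgroups of odd order of `C(z)` have order 1 or 5.
-/

set_option autoImplicit false
set_option Elab.async false

namespace Cfsg.Agent.H890.Spr

open Subgroup
open Cfsg.Agent.TitsK
open Cfsg.Agent.FourTwo.Base (LL)
open Cfsg.Agent.FourTwo.Classes (ec ec_mulU ec_invU ec_conjU ec_zero ec_inj)
open Cfsg.Agent.FourTwo.UCode (mulU invU conjU)

/-- the code of the element of order 16 -/
def sc : ℕ := 8625979

/-- the element of order 16 -/
def sT : LL := ec sc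

theorem sT_mem_UT : sT ∈ UT := by
  have h : mulU (mulU (mulU 74 (invU 263172)) 513) 80 = sc := by decide +kernel
  unfold sT
  rw [← h, ec_mulU, ec_mulU, ec_mulU, ec_invU]
  exact UT.mul_mem (UT.mul_mem (UT.mul_mem (gens_mem (74, true) (by simp [gens12]))
    (UT.inv_mem (gens_mem (263172, true) (by simp [gens12])))) (gens_mem (513, false) (by simp [gens12])))
    (gens_mem (80, false) (by simp [gens12]))

theorem chk_triv : allU (fun _ => true) = true := by decide +kernel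

theorem sT_mem : sT ∈ TT := by
  obtain ⟨e, he, h1, h2, -⟩ := UT_all chk_triv sT_mem_UT
  have h3 : sc = e := ec_inj (by decide +kernel) he h1
  rw [h2, ← h3]
  decide +kernel

theorem sT_mem_HT : sT ∈ HT := TT_le sT_mem

theorem sT_not_Q8 : sT ∉ Q8 := by
  unfold sT
  rw [mem_Q8_iff sT_mem_UT]
  decide +kernel

theorem ec_sq (a : ℕ) : ec (mulU a a) = ec a ^ 2 := by rw [ec_mulU, pow_two]

theorem sT_pow8 : sT ^ 8 = z := by
  have h1 : mulU (mulU (mulU sc sc) (mulU sc sc)) (mulU (mulU sc sc) (mulU sc sc)) = 9437184 := by decide +kernel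
  unfold z sT
  rw [← h1, ec_sq, ec_sq, ec_sq, ← pow_mul, ← pow_mul]

theorem z_sq : z * z = 1 := by
  have h : mulU 9437184 9437184 = 0 := by decide +kernel
  unfold z
  rw [← ec_mulU, h, ec_zero]

theorem orderOf_sT : orderOf sT = 16 := by
  have : Fact (Nat.Prime 2) := ⟨Nat.prime_two⟩
  have h : orderOf sT = 2 ^ (3 + 1) := by
    apply orderOf_eq_prime_pow
    · rw [show (2 : ℕ) ^ 3 = 8 by norm_num, sT_pow8]
      exact z_ne
    · rw [show (2 : ℕ) ^ (3 + 1) = 8 * 2 by norm_num, pow_mul, sT_pow8, pow_two, z_sq]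
  rw [h]
  norm_num

/-! ### the centraliser -/

/-- `nb` moves the elements of `UT` outside `Q8` out of `UT` -/
theorem mem_Q8_of_nb {w : LL} (hw : w ∈ UT) (h : nb * w * nb⁻¹ ∈ UT) : w ∈ Q8 := by
  obtain ⟨i, q, hq, rfl⟩ := UT_decomp8 hw
  have e1 : nb * (yb ^ i * q) * nb⁻¹ = ybm ^ i * (nb * q * nb⁻¹) := by
    rw [← nb_conj_yb, conj_pow]
    group
  rw [e1] at h
  have h2 : ybm ^ i ∈ UT := by
    have h3 := UT.mul_mem h (UT.inv_mem (Q8_le (nb_conj_Q8 hq)))
    rwa [mul_inv_cancel_right] at h3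
  have h3 : ybm ^ i = 1 := UT_inf_VT h2 (VT.pow_mem ybm_mem_VT i)
  have h4 : yb ^ i = 1 := by
    have h5 : nb * yb ^ i * nb⁻¹ = 1 := by rw [← conj_pow, nb_conj_yb, h3]
    exact conj_eq_one_iff.1 h5
  rw [h4, one_mul]
  exact hq

theorem case_nb {u v : LL} (hu : u ∈ UT) (hv : v ∈ UT) (h : (u * nb * v) * sT * (u * nb * v)⁻¹ ∈ UT) : False := by
  have h1 : nb * (v * sT * v⁻¹) * nb⁻¹ ∈ UT := by
    have h2 := UT.mul_mem (UT.mul_mem (UT.inv_mem hu) h) hu
    have e : u⁻¹ * (u * nb * v * sT * (u * nb * v)⁻¹) * u = nb * (v * sT * v⁻¹) * nb⁻¹ := by group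
    rwa [e] at h2
  have h2 := mem_Q8_of_nb (UT.mul_mem (UT.mul_mem hv sT_mem_UT) (UT.inv_mem hv)) h1
  apply sT_not_Q8
  have h3 := UT_conj_Q8 (UT.inv_mem hv) h2
  have e : v⁻¹ * (v * sT * v⁻¹) * v⁻¹⁻¹ = sT := by group
  rwa [e] at h3

/-- the elements of `C(z)` which keep `sT` in `UT` -/
theorem mem_UT_of_cent {g : LL} (hg : g ∈ HT) (hz : g * z * g⁻¹ = z) (h : g * sT * g⁻¹ ∈ UT) : g ∈ UT := by
  obtain ⟨u, hu, v, hv, rfl | rfl⟩ := cent_z_cases hg hz
  · exact UT.mul_mem hu hv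
  · exact (case_nb hu hv h).elim

theorem comm_s {c : LL} (hc : c ∈ HT) (h : c * sT = sT * c) : c ∈ UT := by
  have h1 : c * sT * c⁻¹ = sT := by rw [h]; group
  refine mem_UT_of_cent hc ?_ (by rw [h1]; exact sT_mem_UT)
  rw [← sT_pow8, ← conj_pow, h1]

theorem chk_E0 : allU (fun e => cond (Nat.beq (mulU e e) 0) (cond (Nat.beq (mulU e sc) (mulU sc e))
    (Nat.beq e 0 || Nat.beq e 9437184) true) true) = true := by decide +kernel

/-- the only involution commuting with `sT` is `z` -/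
theorem invol_comm_s {c : LL} (hc : c ∈ HT) (h2 : c * c = 1) (h1 : c ≠ 1) (h : c * sT = sT * c) : c = z := by
  obtain ⟨e, he, rfl, -, h3⟩ := UT_all chk_E0 (comm_s hc h)
  have h4 : mulU e e = 0 := ec_inj (mulU_lt he e) (by norm_num) (by rw [ec_mulU, h2, ec_zero])
  have hsc : sc < 2 ^ 24 := by decide +kernel
  have h5 : mulU e sc = mulU sc e := ec_inj (mulU_lt he _) (mulU_lt hsc _) (by rw [ec_mulU, ec_mulU]; exact h)
  rw [h4, h5, Nat.beq_refl, Nat.beq_refl, cond_true, cond_true, Bool.or_eq_true] at h3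
  rcases h3 with h3 | h3
  · exfalso
    apply h1
    rw [Nat.eq_of_beq_eq_true h3, ec_zero]
  · rw [Nat.eq_of_beq_eq_true h3]
    rfl

theorem conj_s {g : LL} (hg : g ∈ HT) (h : g * sT * g⁻¹ ∈ UT) : g ∈ UT := by
  have h1 : g⁻¹ * z * g = z := by
    refine invol_comm_s (HT.mul_mem (HT.mul_mem (HT.inv_mem hg) (TT_le z_mem_TT)) hg) ?_ ?_ ?_
    · have e : g⁻¹ * z * g * (g⁻¹ * z * g) = g⁻¹ * (z * z) * g := by group
      rw [e, z_sq]
      group
    · intro h2
      apply z_ne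
      have e : z = g * (g⁻¹ * z * g) * g⁻¹ := by group
      rw [e, h2]
      group
    · have h2 := z_central h
      have e : g⁻¹ * z * g * sT = g⁻¹ * (z * (g * sT * g⁻¹)) * g := by group
      have h3 : z * (g * sT * g⁻¹) = (g * sT * g⁻¹) * z := by
        rw [mul_inv_eq_iff_eq_mul] at h2
        exact h2.symm
      rw [e, h3]
      group
  refine mem_UT_of_cent hg ?_ h
  have e : z = g⁻¹ * z * g := h1.symm
  nth_rewrite 1 [e]
  group

/-! ### the conjugates of `z` -/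

theorem conj_LA {u g : LL} (hu : u ∈ UT) (hg : g ∈ TT) (h : g * z * g⁻¹ = u) : ∃ e ∈ LA, e < 2 ^ 24 ∧ u = ec e := by
  have hT : u ∈ TT := by rw [← h]; exact TT.mul_mem (TT.mul_mem hg z_mem_TT) (TT.inv_mem hg)
  have h2 : u * u = 1 := by
    rw [← h]
    have e : g * z * g⁻¹ * (g * z * g⁻¹) = g * (z * z) * g⁻¹ := by group
    rw [e, z_sq]
    group
  have h1 : u ≠ 1 := by
    rintro rfl
    exact z_ne (conj_eq_one_iff.1 h)
  obtain ⟨e, he, rfl, -, h3⟩ := ST_all chk_invol hu hT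
  have h4 : mulU e e = 0 := ec_inj (mulU_lt he e) (by norm_num) (by rw [ec_mulU, h2, ec_zero])
  rw [h4, Nat.beq_refl, cond_true, Bool.or_eq_true, Bool.or_eq_true] at h3
  rcases h3 with (h3 | h3) | h3
  · exact absurd (by rw [Nat.eq_of_beq_eq_true h3, ec_zero]) h1
  · exact ⟨e, memB_spec h3, he, rfl⟩
  · obtain ⟨t, ht, h5⟩ := LB_spec e (memB_spec h3)
    exfalso
    refine not_conj_z_d (TT_le (TT.mul_mem ht hg)) ?_
    rw [← h5, ← h]
    group

/-- the codes of the conjugates of `z` commuting with their conjugate under `sT` -/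
def L11 : List ℕ := [9437184, 16633856, 6656000, 5066752, 14503936, 7196672, 16093184, 9703424, 266240, 13697024,
  4259840]

theorem chk_E1 : (LA.all fun e => !Nat.beq (mulU e (conjU sc e)) (mulU (conjU sc e) e) || L11.contains e) = true := by
  decide +kernel

theorem chk_E3 : (L11.all fun e => (0 :: LA).contains (mulU 9437184 e)) = true := by decide +kernel

theorem chk_E2 : (L11.all fun e => [9437184, 4259840, 13697024].contains e ||
    !(0 :: LA).contains (mulU e (conjU sc e))) = true := by decide +kernel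

theorem isPGroup_sq {B : Subgroup LL} (hsq : ∀ a ∈ B, a * a = 1) : IsPGroup 2 ↥B := by
  intro b
  refine ⟨1, Subtype.ext ?_⟩
  show (b : LL) ^ 2 ^ 1 = 1
  rw [pow_one, pow_two]
  exact hsq b b.2

theorem comm_of_sq {G : Type*} [Group G] {V : Subgroup G} (h : ∀ v ∈ V, v * v = 1) :
    ∀ a ∈ V, ∀ b ∈ V, a * b = b * a := by
  intro a ha b hb
  have h1 := h _ (V.mul_mem ha hb)
  have h2 : a⁻¹ = a := inv_eq_of_mul_eq_one_right (h a ha)
  have h3 : b⁻¹ = b := inv_eq_of_mul_eq_one_right (h b hb)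
  have h4 : (a * b)⁻¹ = a * b := inv_eq_of_mul_eq_one_right h1
  rw [mul_inv_rev, h2, h3] at h4
  exact h4.symm

theorem two_dvd_of_sq {G : Type*} [Group G] [Finite G] {V : Subgroup G} (hV : V ≠ ⊥) (h : ∀ v ∈ V, v * v = 1) :
    2 ∣ Nat.card V := by
  obtain ⟨⟨v, hv⟩, hv0⟩ := (Subgroup.ne_bot_iff_exists_ne_one).1 hV
  have hv1 : v ≠ 1 := fun h => hv0 (Subtype.ext h)
  have : Fact (Nat.Prime 2) := ⟨Nat.prime_two⟩
  have h1 : orderOf v = 2 := orderOf_eq_prime (by rw [pow_two]; exact h v hv) hv1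
  have h2 := Subgroup.orderOf_dvd_natCard V hv
  rwa [h1] at h2

theorem sc_lt : sc < 2 ^ 24 := by decide +kernel

theorem two_local {K V : Subgroup LL} (hK : K ≤ TT) (hs : sT ∈ K) (hVK : V ≤ K)
    (hV : ∀ k ∈ K, ∀ v ∈ V, k * v * k⁻¹ ∈ V) (hV1 : V ≠ ⊥) (hexp : ∀ v ∈ V, v * v = 1) :
    (∀ k ∈ K, k * z * k⁻¹ = z) ∨ ∀ k ∈ K, ∀ v ∈ V4, k * v * k⁻¹ ∈ V4 := by
  have hn : zpowers sT ≤ normalizer (V : Set LL) := by
    rw [zpowers_le]
    exact mem_normalizer_of fun v hv => hV _ hs v hv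
  have hp2 : IsPGroup 2 (zpowers sT) := IsPGroup.of_card (n := 4) (by rw [Nat.card_zpowers, orderOf_sT]; norm_num)
  have hP : IsPGroup 2 ↥(zpowers sT ⊔ V) := hp2.to_sup_of_normal_right' (isPGroup_sq hexp) hn
  have hP' : zpowers sT ⊔ V ≤ HT := sup_le (by rw [zpowers_le]; exact sT_mem_HT) (hVK.trans (hK.trans TT_le))
  obtain ⟨g, hg, h⟩ := Abs.exists_conj_sub UT_le_HT isPGroup_UT (by rw [relIndex_UT]; norm_num) hP' hP
  have hgU : g ∈ UT := conj_s hg (h _ ((le_sup_left : zpowers sT ≤ zpowers sT ⊔ V) (mem_zpowers sT)))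
  have hVU : V ≤ UT := by
    intro v hv
    have h1 := h v ((le_sup_right : V ≤ zpowers sT ⊔ V) hv)
    have h2 := UT.mul_mem (UT.mul_mem (UT.inv_mem hgU) h1) hgU
    have e : g⁻¹ * (g * v * g⁻¹) * g = v := by group
    rwa [e] at h2
  have hzV : z ∈ V := by
    have h2c : 2 ∣ Nat.card V := two_dvd_of_sq hV1 hexp
    obtain ⟨c, hc, h1, h2, h3⟩ := exists_fix_two (T := LL) orderOf_sT (N := V) (fun v hv => hV _ hs v hv) h2c
    have h4 := invol_comm_s (TT_le (hK (hVK hc))) h1 h2 h3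
    rwa [h4] at hc
  have hcomm : ∀ a ∈ V, ∀ b ∈ V, a * b = b * a := comm_of_sq hexp
  have hsc := sc_lt
  -- the codes of the conjugates
  have key1 : ∀ k ∈ K, ∃ e ∈ L11, e < 2 ^ 24 ∧ k * z * k⁻¹ = ec e := by
    intro k hk
    have hy : k * z * k⁻¹ ∈ V := hV k hk z hzV
    obtain ⟨e, he, he', h1⟩ := conj_LA (hVU hy) (hK hk) rfl
    refine ⟨e, ?_, he', h1⟩
    have h2 := chk_E1
    rw [List.all_eq_true] at h2
    have h3 := h2 e he
    rw [h1] at hy
    have h4 := hcomm _ hy _ (hV _ hs _ hy)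
    have h5 : sT * ec e * sT⁻¹ = ec (conjU sc e) := (ec_conjU sc e).symm
    rw [h5, ← ec_mulU, ← ec_mulU] at h4
    have h6 := ec_inj (mulU_lt he' _) (mulU_lt (conjU_lt hsc e) _) h4
    rw [h6, Nat.beq_refl, Bool.not_true, Bool.false_or, List.contains_iff_mem] at h3
    exact h3
  have key3 : ∀ k ∈ K, ∀ k' ∈ K, k * z * k⁻¹ * (k' * z * k'⁻¹) = 1 ∨
      ∃ t ∈ TT, t * z * t⁻¹ = k * z * k⁻¹ * (k' * z * k'⁻¹) := by
    intro k hk k' hk'
    obtain ⟨e, he, he', h1⟩ := key1 (k⁻¹ * k') (K.mul_mem (K.inv_mem hk) hk')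
    have h2 := chk_E3
    rw [List.all_eq_true] at h2
    have h3 := h2 e he
    rw [List.contains_iff_mem, List.mem_cons] at h3
    have h4 : k * z * k⁻¹ * (k' * z * k'⁻¹) = k * ec (mulU 9437184 e) * k⁻¹ := by
      rw [ec_mulU, ← h1]
      have e1 : ec 9437184 = z := rfl
      rw [e1]
      group
    rw [h4]
    rcases h3 with h3 | h3
    · left
      rw [h3, ec_zero]
      group
    · right
      obtain ⟨t, ht, h5⟩ := LA_spec _ h3
      refine ⟨k * t⁻¹, TT.mul_mem (hK hk) (TT.inv_mem ht), ?_⟩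
      rw [← h5]
      group
  have key2 : ∀ k ∈ K, k * z * k⁻¹ = z ∨ k * z * k⁻¹ = z1 ∨ k * z * k⁻¹ = z * z1 := by
    intro k hk
    obtain ⟨e, he, he', h1⟩ := key1 k hk
    have h2 := chk_E2
    rw [List.all_eq_true] at h2
    have h3 := h2 e he
    rw [Bool.or_eq_true] at h3
    rcases h3 with h3 | h3
    · rw [List.contains_iff_mem] at h3
      simp only [List.mem_cons, List.not_mem_nil, or_false] at h3
      rw [h1, z_mul_z1]
      rcases h3 with rfl | rfl | rfl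
      · exact Or.inl rfl
      · exact Or.inr (Or.inl rfl)
      · exact Or.inr (Or.inr rfl)
    · exfalso
      rw [Bool.not_eq_true', ← Bool.not_eq_true] at h3
      apply h3
      rw [List.contains_iff_mem, List.mem_cons]
      have h4 := key3 k hk (sT * k) (K.mul_mem hs hk)
      have h5 : k * z * k⁻¹ * (sT * k * z * (sT * k)⁻¹) = ec (mulU e (conjU sc e)) := by
        rw [ec_mulU, ec_conjU, ← h1]
        have e1 : ec sc = sT := rfl
        rw [e1]
        group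
      have hlt : mulU e (conjU sc e) < 2 ^ 24 := mulU_lt he' _
      rw [h5] at h4
      rcases h4 with h4 | ⟨t, ht, h4⟩
      · left
        exact ec_inj hlt (by norm_num) (by rw [h4, ec_zero])
      · right
        have hu : ec (mulU e (conjU sc e)) ∈ UT := by
          rw [← h5]
          exact hVU (V.mul_mem (hV k hk z hzV) (hV _ (K.mul_mem hs hk) z hzV))
        obtain ⟨e', h6, h7, h8⟩ := conj_LA hu ht h4
        rw [ec_inj hlt h7 h8]
        exact h6
  by_cases hall : ∀ k ∈ K, k * z * k⁻¹ = z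
  · exact Or.inl hall
  right
  push Not at hall
  obtain ⟨k0, hk0, hne⟩ := hall
  have hs1 : sT * z1 * sT⁻¹ = z * z1 := by
    have h1 : conjU sc 4259840 = 13697024 := by decide +kernel
    rw [z_mul_z1, ← h1, ec_conjU]
    rfl
  have hs2 : sT * (z * z1) * sT⁻¹ = z1 := by
    have h1 : conjU sc 13697024 = 4259840 := by decide +kernel
    rw [z_mul_z1]
    unfold z1
    rw [← h1, ec_conjU]
    rfl
  have hex : (∃ k ∈ K, k * z * k⁻¹ = z1) ∧ ∃ k ∈ K, k * z * k⁻¹ = z * z1 := by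
    rcases key2 k0 hk0 with h1 | h1 | h1
    · exact absurd h1 hne
    · refine ⟨⟨k0, hk0, h1⟩, sT * k0, K.mul_mem hs hk0, ?_⟩
      rw [← hs1, ← h1]
      group
    · refine ⟨⟨sT * k0, K.mul_mem hs hk0, ?_⟩, k0, hk0, h1⟩
      rw [← hs2, ← h1]
      group
  obtain ⟨⟨k1, hk1, h1⟩, k2, hk2, h2⟩ := hex
  have hin : ∀ k ∈ K, k * z * k⁻¹ ∈ V4 := by
    intro k hk
    rw [mem_V4_iff]
    exact Or.inr (key2 k hk)
  intro k hk v hv
  rcases mem_V4_iff.1 hv with rfl | rfl | rfl | rfl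
  · rw [mul_one, mul_inv_cancel]
    exact V4.one_mem
  · exact hin k hk
  · rw [← h1]
    have e : k * (k1 * z * k1⁻¹) * k⁻¹ = k * k1 * z * (k * k1)⁻¹ := by group
    rw [e]
    exact hin _ (K.mul_mem hk hk1)
  · rw [← h2]
    have e : k * (k2 * z * k2⁻¹) * k⁻¹ = k * k2 * z * (k * k2)⁻¹ := by group
    rw [e]
    exact hin _ (K.mul_mem hk hk2)

/-! ### the subgroups of odd order of `C(z)` -/

theorem card_odd_z {V : Subgroup LL} (hV : V ≤ Pz) (ho : Odd (Nat.card V)) : Nat.card V ∣ 5 := by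
  obtain ⟨f, h1, -, h2⟩ := exists_lam
  have hE : V ≤ E8 := by
    intro g hg
    rw [← h2 g (hV hg)]
    have hcop : Nat.Coprime 4 (orderOf g) := by
      have h4 : Odd (orderOf g) := Odd.of_dvd_nat ho (Subgroup.orderOf_dvd_natCard V hg)
      have h5 : Nat.Coprime (2 ^ 2) (orderOf g) := Nat.Coprime.pow_left 2 (Nat.coprime_two_left.2 h4)
      exact h5
    obtain ⟨m, hm⟩ := exists_pow_eq_self_of_coprime hcop
    have hP : g ^ m ∈ Pz := Pz.pow_mem (hV hg) m
    have h3 : f ((g ^ m) ^ 4) = f (g ^ m) + f (g ^ m) + f (g ^ m) + f (g ^ m) := by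
      rw [pow_succ, pow_succ, pow_two, h1 _ (Pz.mul_mem (Pz.mul_mem hP hP) hP) _ hP, h1 _ (Pz.mul_mem hP hP) _ hP,
        h1 _ hP _ hP]
    have h4 : g = (g ^ m) ^ 4 := by rw [← pow_mul, mul_comm, pow_mul, hm]
    have h5 : f g = f (g ^ m) + f (g ^ m) + f (g ^ m) + f (g ^ m) := by
      rw [← h3, ← h4]
    rw [h5]
    generalize f (g ^ m) = c
    revert c
    decide
  have h3 : Q8.relIndex E8 ∣ 5 := Abs.relIndex_dvd_of_mulSub (D := Q8) (H := E8) (y := xf) (norm_Q8 xf_mem_Pz)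
    xf_mem_E8 (fun b hb q hq => Pz_conj_Q8 (E8_le_Pz hb) hq) (n := 5) (by rw [xf_pow5]; exact Q8.one_mem) le_rfl
  have h4 : Nat.card ↥Q8 * Q8.relIndex E8 = Nat.card ↥E8 := by
    have := card_of_relIndex Q8_le_E8 _ rfl
    exact this
  have h5 : Nat.card V ∣ 2 ^ 10 * 5 := by
    refine (Subgroup.card_dvd_of_le hE).trans ?_
    rw [← h4, card_Q8]
    exact Nat.mul_dvd_mul_left _ h3
  exact (Nat.Coprime.dvd_mul_left (Nat.Coprime.pow_right 10 (Nat.coprime_two_right.2 ho))).1 h5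

end Cfsg.Agent.H890.Spr
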